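import Mathlib
import Cfsg.Prelude.Def_FusionSystem
import Cfsg.Prelude.Def_CaseTheorems
import Cfsg.Prelude.Def_OddOrderLocal
import Cfsg.Prelude.Def_Transfer

/-!
# Project RES (S5289: rank two `p`-groups, `p ≥ 5`, other than `p^{1+2}_+`, are resistant) -- definitions

Everything lives in an ambient group `Ω` with `S : Subgroup Ω` (the fusion systems are over `S`).
`F1Set p n S x y z` / `F2Set p n s S x y z` are the second and third families of Blackburn's theorem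
(S3888), written for elements `x y z : Ω` generating `S`.

In the `F2` setting: `AA y z = ⟨y, z⟩` (abelian of index `p`), `TT p y z = ⟨y, z^p⟩ = Z₂(S)`,
`ZZ p z = ⟨z^p⟩ = Z(S)`, `MM p x y z k = ⟨y, z^p, x z^k⟩` (the maximal subgroups other than `AA`),
`QQ p x y z = ⟨y, z^p, x⟩ = MM 0`.
-/

set_option autoImplicit false

namespace Cfsg.Agent.Lib.Helper10.RES

variable {Ω : Type*} [Group Ω]

/-- the family F1 of Blackburn's theorem, inside `Ω` -/
structure F1Set (p n : ℕ) (S : Subgroup Ω) (x y z : Ω) : Prop where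
  card : Nat.card S = p ^ n
  hn3 : 3 ≤ n
  gen : Subgroup.closure ({x, y, z} : Set Ω) = S
  xp : x ^ p = 1
  yp : y ^ p = 1
  zp : z ^ p ^ (n - 2) = 1
  xz : x * z = z * x
  yz : y * z = z * y
  xy : x⁻¹ * y * x = y * z ^ p ^ (n - 3)

/-- the family F2 of Blackburn's theorem, inside `Ω` (`s` prime to `p`) -/
structure F2Set (p n s : ℕ) (S : Subgroup Ω) (x y z : Ω) : Prop where
  card : Nat.card S = p ^ n
  hn4 : 4 ≤ n
  hs : ¬ p ∣ s
  gen : Subgroup.closure ({x, y, z} : Set Ω) = S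
  xp : x ^ p = 1
  yp : y ^ p = 1
  zp : z ^ p ^ (n - 2) = 1
  yz : y * z = z * y
  xy : x⁻¹ * y * x = y * z ^ (s * p ^ (n - 3))
  xz : x⁻¹ * z * x = y * z

/-- `A = ⟨y, z⟩` -/
def AA (y z : Ω) : Subgroup Ω := Subgroup.closure ({y, z} : Set Ω)

/-- `T = ⟨y, z^p⟩` -/
def TT (p : ℕ) (y z : Ω) : Subgroup Ω := Subgroup.closure ({y, z ^ p} : Set Ω)

/-- `Z = ⟨z^p⟩` -/
def ZZ (p : ℕ) (z : Ω) : Subgroup Ω := Subgroup.zpowers (z ^ p)

/-- `M_k = ⟨y, z^p, x z^k⟩` -/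
def MM (p : ℕ) (x y z : Ω) (k : ℕ) : Subgroup Ω :=
  Subgroup.closure ({y, z ^ p, x * z ^ k} : Set Ω)

/-- `Q = ⟨y, z^p, x⟩` -/
def QQ (p : ℕ) (x y z : Ω) : Subgroup Ω := Subgroup.closure ({y, z ^ p, x} : Set Ω)

/-- `E` is centric in `S` in the elementary sense: `C_S(E) ≤ E` -/
def SelfCent (S E : Subgroup Ω) : Prop := ∀ g ∈ S, (∀ e ∈ E, g * e = e * g) → g ∈ E

/-- `β` acts trivially on `T / K` and on `E / T` -/
def ChainTriv {E : Type*} [Group E] (K T : Subgroup E) (β : MulAut E) : Prop :=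
  (∀ t ∈ T, t⁻¹ * β t ∈ K) ∧ ∀ e : E, e⁻¹ * β e ∈ T

end Cfsg.Agent.Lib.Helper10.RES
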