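import Mathlib
import Cfsg.Agent.Lib.Helper10.RES.Defs
import Cfsg.Agent.Lib.Helper25.RESGA1
import Cfsg.Agent.Lib.Helper25.RESGA3
import Cfsg.Agent.Lib.Helper25.RESGA4
import Cfsg.Agent.Lib.Helper25.RESGA5
import Cfsg.Agent.Lib.Helper11.RESGZ2
import Cfsg.Agent.Lib.Helper11.RESGZ5
import Cfsg.Agent.Lib.Helper10.RESFA
import Cfsg.Agent.Lib.Helper29.RESFN
import Cfsg.Agent.Lib.Helper29.RESFS
import Cfsg.Agent.Lib.Helper29.RESFX
import Cfsg.Agent.Lib.Helper16.RESGA6a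
import Cfsg.Agent.Lib.Helper1.RESGW2
import Cfsg.Agent.Lib.Helper1.RESTV
import Cfsg.Agent.Lib.Helper27.RESGM3
import Cfsg.Agent.Lib.Helper29.RESBR
import Cfsg.Agent.Lib.Helper1.RESTQ
import Cfsg.Agent.Lib.Helper11.RESGZ1
import Cfsg.Agent.Lib.Helper10.RESAD
import Cfsg.Agent.Lib.Helper22.RESGZ3
import Cfsg.Agent.Lib.Helper22.RESGZ4
import Cfsg.Agent.Lib.Helper22.RESGQ1a
import Cfsg.Agent.Lib.Helper22.RESGQ1b
import Cfsg.Agent.Lib.Helper22.RESGQ1c
import Cfsg.Agent.Lib.Helper19.RESGC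
import Cfsg.Agent.Lib.helper2.RESH1
import Cfsg.Agent.Lib.helper2.RESH2
import Cfsg.Agent.Lib.Helper10.RESGA6b
import Cfsg.Agent.Lib.helper4.RESGM2
import Cfsg.Agent.Lib.helper4.RESGM1
import Cfsg.Agent.Lib.Helper19.RESGW1
import Cfsg.Agent.Lib.Helper27.RESGQ2
import Cfsg.Agent.Lib.Helper27.RESGP1
import Cfsg.Agent.Lib.Helper27.RESGP2
import Cfsg.Agent.Lib.Helper27.EssExt
import Cfsg.Agent.Lib.Helper27.EssStab2
import Cfsg.Agent.S5187
import Cfsg.Agent.S5087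
import Cfsg.Agent.S5234
import Cfsg.Agent.S3888

set_option autoImplicit false
set_option linter.unusedVariables false

namespace Cfsg.Agent.Lib.Helper10.RES

open Cfsg Cfsg.FusionSystem Cfsg.Agent.Lib.Helper26

variable {Ω : Type*} [Group Ω]

/-! ## Part G : pure group theory of the family F2 (`hF : F2Set p n s S x y z`) -/

section G
variable {p n s : ℕ} [Fact p.Prime] {S : Subgroup Ω} {x y z : Ω}















/-- the weight lemma (assembly): an automorphism of `S` acts on `S / A` by `a` with `a² ≡ 1`. -/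
theorem F2Set.weight (hF : F2Set p n s S x y z) (hxS : x ∈ S) (ψ : ↥S →* Ω)
    (hinj : Function.Injective ψ) (hψS : ∀ g, ψ g ∈ S) (a : ℕ) (t : Ω) (ht : t ∈ AA y z)
    (hx : ψ ⟨x, hxS⟩ = x ^ a * t) : p ∣ a ^ 2 - 1 :=
  hF.weight_aux hxS ψ hinj hψS (hF.aut_A ψ hinj hψS) a t ht hx








/-- `Q` facts (assembly). -/
theorem F2Set.Q_facts (hF : F2Set p n s S x y z) (hp5 : 5 ≤ p) :
    QQ p x y z ≤ S ∧ S ≤ Subgroup.normalizer (QQ p x y z : Set Ω) ∧ TT p y z ≤ QQ p x y z ∧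
      x ∈ QQ p x y z ∧ z ∉ QQ p x y z ∧
      (∀ q ∈ QQ p x y z, (∀ q' ∈ QQ p x y z, q * q' = q' * q) → q ∈ ZZ p z) ∧
      (∀ q ∈ QQ p x y z, q ^ p ∈ ZZ p z) ∧
      (∀ q ∈ QQ p x y z, ∀ q' ∈ QQ p x y z, q⁻¹ * q'⁻¹ * q * q' ∈ ZZ p z) ∧
      (∀ q ∈ QQ p x y z, ∃ i : ℕ, ∃ t ∈ TT p y z, q = x ^ i * t) ∧
      x⁻¹ * (z * x * z⁻¹) ∉ ZZ p z := by
  obtain ⟨h1, h2, h3, h4, h5, h6⟩ := hF.Q_basic
  obtain ⟨h7, h8, h9⟩ := hF.Q_quot hp5
  exact ⟨h1, h2, h3, h4, h5, fun q hq hc => hF.Q_center q hq hc, h7, h8, h6, h9⟩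




/-- the pearl facts (assembly). -/
theorem F2Set.pearl (hF : F2Set p n s S x y z) (hp5 : 5 ≤ p) (E : Subgroup Ω) (hES : E ≤ S)
    (hcen : SelfCent S E) (hel : Cfsg.IsElementaryAbelian p E) (hcard : Nat.card E = p ^ 2) :
    n = 4 ∧ ZZ p z ≤ E ∧ y ∉ E ∧ E ≤ QQ p x y z ∧
      (∀ q ∈ QQ p x y z, ∃ e ∈ E, ∃ t ∈ TT p y z, q = e * t) ∧
      QQ p x y z ≤ Subgroup.normalizer (E : Set Ω) ∧
      ∀ g ∈ S, g ∈ Subgroup.normalizer (E : Set Ω) → g ∈ QQ p x y z := by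
  obtain ⟨h1, h2, h3, h4⟩ := hF.pearl_a hp5 E hES hcen hel hcard
  obtain ⟨h5, h6, h7⟩ := hF.pearl_b hp5 E hES hcen hel hcard
  exact ⟨h1, h2, h3, h4, h5, h6, h7⟩

end G

/-! ## Part H : pure group theory of the family F1 -/

section H
variable {p n : ℕ} [Fact p.Prime] {S : Subgroup Ω} {x y z : Ω}



end H

/-! ## Part T : abstract torus lemmas -/

section T


variable {E : Type*} [Group E] [Finite E] {p : ℕ} [Fact p.Prime]



/-- the torus lemma (assembly of TQ and AD). -/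
theorem torus (hp2 : p ≠ 2) (𝔄 Pm : Subgroup (MulAut E)) (hPle : Pm ≤ 𝔄)
    (hP : ∃ R : Sylow p ↥𝔄, (R : Subgroup ↥𝔄) = Pm.subgroupOf 𝔄)
    (K T : Subgroup E) [K.Normal]
    (hKT : K ≤ T) (hKinv : ∀ α ∈ 𝔄, ∀ k ∈ K, α k ∈ K)
    (hexp : ∀ e : E, e ^ p ∈ K) (hab : ∀ e f : E, e⁻¹ * f⁻¹ * e * f ∈ K)
    (hidx : K.index = p ^ 2) (hTK : K.relIndex T = p)
    (hPU : ∀ β ∈ Pm, ChainTriv K T β)
    (u : MulAut E) (hu : u ∈ Pm) (hu3 : ∃ e : E, e⁻¹ * u e ∉ K)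
    (α : MulAut E) (hα : α ∈ 𝔄) (hαT : ∃ t ∈ T, α t ∉ T) :
    ∃ h ∈ 𝔄, (∀ β ∈ Pm, h * β * h⁻¹ ∈ Pm) ∧ (∀ t ∈ T, h t ∈ T) ∧
      ∀ e : E, (e ^ 2)⁻¹ * h e ∈ T := by
  obtain ⟨h', hh', hT', hsq⟩ := torus_raw hp2 𝔄 K T hKT hKinv hexp hab hidx hTK u (hPle hu)
    (hPU u hu) hu3 α hα hαT
  obtain ⟨c, hc, hcc, hnorm⟩ := adjust 𝔄 Pm hPle hP K T hKT hPU h' hh' (hKinv h' hh') hT'
  refine ⟨c * h', 𝔄.mul_mem hc hh', hnorm, ?_, ?_⟩
  · intro t ht
    rw [MulAut.mul_apply]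
    have h1 := hcc.1 (h' t) (hT' t ht)
    have : c (h' t) = h' t * ((h' t)⁻¹ * c (h' t)) := by group
    rw [this]
    exact T.mul_mem (hT' t ht) (hKT h1)
  · intro e
    rw [MulAut.mul_apply]
    have h1 := hcc.2 (h' e)
    have h2 := hsq e
    have : (e ^ 2)⁻¹ * c (h' e) = ((e ^ 2)⁻¹ * h' e) * ((h' e)⁻¹ * c (h' e)) := by group
    rw [this]
    exact T.mul_mem h2 h1

end T
/-! ## Part F : fusion-level tools -/

section F
variable {S : Subgroup Ω}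





theorem sylow_autInduced [Finite S] {p : ℕ} [Fact p.Prime] (hS : IsPGroup p S)
    (F : FusionSystem S) (hF : F.IsSaturated p) {R : Subgroup Ω} (hfn : F.IsFullyNormalized R) :
    autInducedBy S R ≤ F.autGroup R ∧
    ∃ R' : Sylow p ↥(F.autGroup R),
      (R' : Subgroup ↥(F.autGroup R)) = (autInducedBy S R).subgroupOf (F.autGroup R) := by
  obtain ⟨-, hfa, -⟩ := saturated_fullyNormalized hS F hF hfn
  exact ⟨autInducedBy_le_autGroup F hfn.1, hfa.2⟩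

end F

/-! ## Part M : assemblies -/

section M
variable {S : Subgroup Ω} {p n s : ℕ} [Fact p.Prime] {x y z : Ω}

/-- elements of `Z` commute with `S`. -/
theorem F2Set.Z_comm (hG : F2Set p n s S x y z) : ∀ g ∈ S, ∀ k₀ ∈ ZZ p z, k₀ * g = g * k₀ := by
  intro g hg k₀ hk₀
  obtain ⟨m, rfl⟩ := Subgroup.mem_zpowers_iff.1 hk₀
  have := hG.zp_central.1 g hg
  exact ((Commute.zpow_right (show Commute g (z ^ p) from this) m).eq).symm

/-- automorphisms of `Q` preserve `Z = Z(Q)`. -/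
theorem F2Set.Q_aut_Z (hG : F2Set p n s S x y z) (hp5 : 5 ≤ p) (h : MulAut ↥(QQ p x y z))
    (k : ↥(QQ p x y z)) (hk : (k : Ω) ∈ ZZ p z) : ((h k : ↥(QQ p x y z)) : Ω) ∈ ZZ p z := by
  obtain ⟨hQS, hQn, hTQ, hxQ, hzQ, hcenQ, -, -, -, -⟩ := hG.Q_facts hp5
  apply hcenQ _ (h k).2
  intro q' hq'
  obtain ⟨q₀, hq₀⟩ := h.surjective ⟨q', hq'⟩
  have hkc : k * q₀ = q₀ * k := by
    apply Subtype.ext
    rw [Subgroup.coe_mul, Subgroup.coe_mul]
    exact hG.Z_comm _ (hQS q₀.2) _ hk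
  have := congrArg (fun t : ↥(QQ p x y z) => (h t : Ω)) hkc
  simp only [map_mul, Subgroup.coe_mul, hq₀] at this
  exact this

/-- the automorphisms of `Q` induced by `S` are trivial on `T/Z` and `Q/T`. -/
theorem F2Set.Q_chainTriv (hG : F2Set p n s S x y z) (hp5 : 5 ≤ p) :
    ∀ β ∈ autInducedBy S (QQ p x y z),
      ChainTriv ((ZZ p z).subgroupOf (QQ p x y z)) ((TT p y z).subgroupOf (QQ p x y z)) β := by
  obtain ⟨hQS, hQn, hTQ, hxQ, hzQ, hcenQ, -, -, -, -⟩ := hG.Q_facts hp5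
  obtain ⟨hZT, hTA, hSS, hTS, -, -⟩ := hG.T_facts
  intro β hβ
  obtain ⟨g, hg, hgβ⟩ := mem_autInducedBy_iff.mp hβ
  refine ⟨fun t ht => ?_, fun e => ?_⟩
  · rw [Subgroup.mem_subgroupOf]
    show ((t⁻¹ * β t : ↥(QQ p x y z)) : Ω) ∈ ZZ p z
    rw [Subgroup.coe_mul, Subgroup.coe_inv, hgβ]
    exact hTS g hg _ (Subgroup.mem_subgroupOf.1 ht)
  · rw [Subgroup.mem_subgroupOf]
    show ((e⁻¹ * β e : ↥(QQ p x y z)) : Ω) ∈ TT p y z
    rw [Subgroup.coe_mul, Subgroup.coe_inv, hgβ]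
    exact hSS _ (hQS e.2) g hg

/-- **M0b** (assembly). no `F`-automorphism of `Q` preserves `T` and acts on `Q/T` by squaring. -/
theorem F2Set.no_weight_two [Finite S] (hS : IsPGroup p S) (F : FusionSystem S)
    (hF : F.IsSaturated p) (hG : F2Set p n s S x y z) (hp5 : 5 ≤ p)
    (h : MulAut ↥(QQ p x y z)) (hh : h ∈ F.autGroup (QQ p x y z))
    (hT : ∀ q : ↥(QQ p x y z), (q : Ω) ∈ TT p y z → ((h q : ↥(QQ p x y z)) : Ω) ∈ TT p y z)
    (hsq : ∀ q : ↥(QQ p x y z), ((q : Ω) ^ 2)⁻¹ * ((h q : ↥(QQ p x y z)) : Ω) ∈ TT p y z) :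
    False := by
  have hpp : p.Prime := Fact.out
  obtain ⟨hQS, hQn, hTQ, hxQ, hzQ, hcenQ, -, -, -, -⟩ := hG.Q_facts hp5
  obtain ⟨hZT, hTA, hSS, hTS, -, -⟩ := hG.T_facts
  obtain ⟨hxS, hyS, hzS, hAS⟩ := hG.mems
  have hfn := fullyNormalized_of_normal F hQS hQn
  obtain ⟨hPle, hP⟩ := sylow_autInduced hS F hF hfn
  have : Finite ↥(QQ p x y z) := Finite.of_injective (Subgroup.inclusion hQS)
    (Subgroup.inclusion_injective hQS)
  -- the chain inside `↥Q`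
  set K' : Subgroup ↥(QQ p x y z) := (ZZ p z).subgroupOf (QQ p x y z) with hK'
  set T' : Subgroup ↥(QQ p x y z) := (TT p y z).subgroupOf (QQ p x y z) with hT'
  have hKT' : K' ≤ T' := fun q hq => Subgroup.mem_subgroupOf.2 (hZT (Subgroup.mem_subgroupOf.1 hq))
  have hK : ∀ k ∈ K', h k ∈ K' := fun k hk =>
    Subgroup.mem_subgroupOf.2 (hG.Q_aut_Z hp5 h k (Subgroup.mem_subgroupOf.1 hk))
  have hT'' : ∀ t ∈ T', h t ∈ T' := fun t ht =>
    Subgroup.mem_subgroupOf.2 (hT t (Subgroup.mem_subgroupOf.1 ht))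
  obtain ⟨c, hc, hcc, hnorm⟩ := adjust (F.autGroup (QQ p x y z)) (autInducedBy S (QQ p x y z))
    hPle hP K' T' hKT' (hG.Q_chainTriv hp5) h hh hK hT''
  obtain ⟨ψ, hψ, hψh⟩ := extend_normalizing hS F hF hfn (c * h) (Subgroup.mul_mem _ hc hh) hnorm S
    le_rfl hQn hQS
  -- the weight
  have h1 := hsq ⟨x, hxQ⟩
  have h2 := Subgroup.mem_subgroupOf.1 (hcc.2 (h ⟨x, hxQ⟩))
  rw [Subgroup.coe_mul, Subgroup.coe_inv] at h2
  have hx : ψ ⟨x, hxS⟩ = x ^ 2 * (((x ^ 2)⁻¹ * ((h ⟨x, hxQ⟩ : ↥(QQ p x y z)) : Ω)) *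
      (((h ⟨x, hxQ⟩ : ↥(QQ p x y z)) : Ω)⁻¹ * ((c (h ⟨x, hxQ⟩) : ↥(QQ p x y z)) : Ω))) := by
    rw [hψh x hxQ, MulAut.mul_apply]
    group
  have hdvd := hG.weight hxS ψ (F.injective_of_mem hψ) (fun g => (F.le_of_mem hψ).2 g) 2 _
    (hTA (Subgroup.mul_mem _ h1 h2)) hx
  have : p ≤ 3 := Nat.le_of_dvd (by norm_num) (by simpa using hdvd)
  omega

/-- **M0a** (assembly). every `F`-automorphism of `Q` preserves `T`. -/
theorem F2Set.Q_aut_T [Finite S] (hS : IsPGroup p S) (F : FusionSystem S)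
    (hF : F.IsSaturated p) (hG : F2Set p n s S x y z) (hp5 : 5 ≤ p)
    (α : MulAut ↥(QQ p x y z)) (hα : α ∈ F.autGroup (QQ p x y z)) (q : ↥(QQ p x y z))
    (hq : (q : Ω) ∈ TT p y z) : ((α q : ↥(QQ p x y z)) : Ω) ∈ TT p y z := by
  have hpp : p.Prime := Fact.out
  by_contra hnot
  obtain ⟨hQS, hQn, hTQ, hxQ, hzQ, hcenQ, hpow, hcomm, -, hxz⟩ := hG.Q_facts hp5
  obtain ⟨hZT, hTA, hSS, hTS, -, -⟩ := hG.T_facts
  obtain ⟨hxS, hyS, hzS, hAS⟩ := hG.mems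
  obtain ⟨-, hcZ⟩ := hG.orders
  obtain ⟨-, hcT, hcQ⟩ := hG.cards
  have hfn := fullyNormalized_of_normal F hQS hQn
  obtain ⟨hPle, hP⟩ := sylow_autInduced hS F hF hfn
  have : Finite ↥(QQ p x y z) := Finite.of_injective (Subgroup.inclusion hQS)
    (Subgroup.inclusion_injective hQS)
  set K' : Subgroup ↥(QQ p x y z) := (ZZ p z).subgroupOf (QQ p x y z) with hK'
  set T' : Subgroup ↥(QQ p x y z) := (TT p y z).subgroupOf (QQ p x y z) with hT'
  have hKT' : K' ≤ T' := fun q hq => Subgroup.mem_subgroupOf.2 (hZT (Subgroup.mem_subgroupOf.1 hq))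
  have hKn : K'.Normal := by
    constructor
    intro k hk g
    have : g * k * g⁻¹ = k := by
      apply Subtype.ext
      simp only [Subgroup.coe_mul, Subgroup.coe_inv]
      rw [← hG.Z_comm _ (hQS g.2) _ (Subgroup.mem_subgroupOf.1 hk), mul_inv_cancel_right]
    rw [this]; exact hk
  have hKinv : ∀ α ∈ F.autGroup (QQ p x y z), ∀ k ∈ K', α k ∈ K' := fun α _ k hk =>
    Subgroup.mem_subgroupOf.2 (hG.Q_aut_Z hp5 α k (Subgroup.mem_subgroupOf.1 hk))
  have hexp : ∀ e : ↥(QQ p x y z), e ^ p ∈ K' := fun e => by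
    rw [Subgroup.mem_subgroupOf, Subgroup.coe_pow]; exact hpow _ e.2
  have hab : ∀ e f : ↥(QQ p x y z), e⁻¹ * f⁻¹ * e * f ∈ K' := fun e f => by
    rw [Subgroup.mem_subgroupOf]
    simp only [Subgroup.coe_mul, Subgroup.coe_inv]
    exact hcomm _ e.2 _ f.2
  -- cardinalities
  have hn4 := hG.hn4
  have hcK : Nat.card K' = p ^ (n - 3) := by
    rw [hK', Nat.card_congr (Subgroup.subgroupOfEquivOfLe (hZT.trans hTQ)).toEquiv]
    exact hcZ
  have hcT' : Nat.card T' = p ^ (n - 2) := by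
    rw [hT', Nat.card_congr (Subgroup.subgroupOfEquivOfLe hTQ).toEquiv]
    exact hcT
  have hidx : K'.index = p ^ 2 := by
    have h1 := Subgroup.card_mul_index K'
    rw [hcK, hcQ] at h1
    have h2 : p ^ (n - 1) = p ^ (n - 3) * p ^ 2 := by rw [← pow_add]; congr 1; omega
    rw [h2] at h1
    exact Nat.eq_of_mul_eq_mul_left (pow_pos hpp.pos _) h1
  have hTidx : T'.index = p := by
    have h1 := Subgroup.card_mul_index T'
    rw [hcT', hcQ] at h1
    have h2 : p ^ (n - 1) = p ^ (n - 2) * p := by rw [← pow_succ]; congr 1; omega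
    rw [h2] at h1
    exact Nat.eq_of_mul_eq_mul_left (pow_pos hpp.pos _) h1
  have hTK : K'.relIndex T' = p := by
    have h1 := Subgroup.relIndex_mul_index hKT'
    rw [hidx, hTidx, pow_two] at h1
    exact Nat.eq_of_mul_eq_mul_right hpp.pos h1
  -- the transvection induced by `z`
  have hzN : z ∈ Subgroup.normalizer (QQ p x y z : Set Ω) := hQn hzS
  have hu3 : ∃ e : ↥(QQ p x y z), e⁻¹ * (conjAut (QQ p x y z) z hzN) e ∉ K' := by
    refine ⟨⟨x, hxQ⟩, ?_⟩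
    rw [Subgroup.mem_subgroupOf]
    simp only [Subgroup.coe_mul, Subgroup.coe_inv, conjAut_apply]
    exact hxz
  obtain ⟨h, hh, hnorm, hT, hsq⟩ := torus (p := p) (by omega) (F.autGroup (QQ p x y z))
    (autInducedBy S (QQ p x y z)) hPle hP K' T' hKT' hKinv hexp hab hidx hTK
    (hG.Q_chainTriv hp5) (conjAut (QQ p x y z) z hzN) (conjAut_mem_autInducedBy hzS hzN) hu3
    α hα ⟨q, Subgroup.mem_subgroupOf.2 hq, fun hc => hnot (Subgroup.mem_subgroupOf.1 hc)⟩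
  refine hG.no_weight_two hS F hF hp5 h hh
    (fun q hq => Subgroup.mem_subgroupOf.1 (hT q (Subgroup.mem_subgroupOf.2 hq))) (fun q => ?_)
  have := Subgroup.mem_subgroupOf.1 (hsq q)
  simpa only [Subgroup.coe_mul, Subgroup.coe_inv, Subgroup.coe_pow] using this

end M

/-! ## Part N : the case analysis (assemblies) -/

section N
variable {S : Subgroup Ω} {p n s : ℕ} [Fact p.Prime] {x y z : Ω}

/-- essential subgroups are self-centralizing. -/
theorem selfCent_of_essential (F : FusionSystem S) {E : Subgroup Ω} (hE : F.IsEssential p E) :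
    E ≤ S ∧ SelfCent S E := by
  refine ⟨hE.1.1, fun g hg hc => ?_⟩
  apply hE.1.2 E (isConj_refl F hE.1.1)
  refine ⟨hg, Subgroup.mem_centralizer_iff.2 fun e he => ?_⟩
  exact (hc e he).symm

/-- an injective endomorphism of a finite subgroup is onto. -/
theorem range_eq_of_forall_mem {P : Subgroup Ω} [Finite P] (φ : ↥P →* Ω)
    (hinj : Function.Injective φ) (hP : ∀ q, φ q ∈ P) : φ.range = P := by
  have hle : φ.range ≤ P := by rintro _ ⟨q, rfl⟩; exact hP q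
  have hcard : Nat.card φ.range = Nat.card P :=
    (Nat.card_congr (MonoidHom.ofInjective hinj).toEquiv).symm
  have : Finite φ.range := Finite.of_injective _ (Subgroup.inclusion_injective hle)
  exact Subgroup.eq_of_le_of_card_ge hle hcard.ge

/-- **PEARL** (assembly). there is no essential elementary abelian subgroup of order `p²`. -/
theorem F2Set.no_pearl [Finite S] (hS : IsPGroup p S) (F : FusionSystem S)
    (hF : F.IsSaturated p) (hG : F2Set p n s S x y z) (hp5 : 5 ≤ p) (E : Subgroup Ω)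
    (hE : F.IsEssential p E) (hel : Cfsg.IsElementaryAbelian p E) (hcard : Nat.card E = p ^ 2) :
    False := by
  have hpp : p.Prime := Fact.out
  obtain ⟨hES, hcen⟩ := selfCent_of_essential F hE
  obtain ⟨hn4, hZE, hyE, hEQ, hQET, hQNE, hNEQ⟩ := hG.pearl hp5 E hES hcen hel hcard
  obtain ⟨hQS, hQn, hTQ, hxQ, hzQ, hcenQ, hpow, hcomm, -, hxz⟩ := hG.Q_facts hp5
  obtain ⟨hZT, hTA, hSS, hTS, -, -⟩ := hG.T_facts
  obtain ⟨hxS, hyS, hzS, hAS⟩ := hG.mems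
  obtain ⟨-, hcZ⟩ := hG.orders
  have hyT : y ∈ TT p y z := Subgroup.subset_closure (by simp)
  have hyQ : y ∈ QQ p x y z := hTQ hyT
  have hyN : y ∈ Subgroup.normalizer (E : Set Ω) := hQNE hyQ
  have hfn : F.IsFullyNormalized E := hE.2.1
  obtain ⟨hPle, hP⟩ := sylow_autInduced hS F hF hfn
  have hfinE : Finite ↥E := Finite.of_injective (Subgroup.inclusion hES)
    (Subgroup.inclusion_injective hES)
  have hfinQ : Finite ↥(QQ p x y z) := Finite.of_injective (Subgroup.inclusion hQS)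
    (Subgroup.inclusion_injective hQS)
  -- commutators of `E` with `Q` lie in `Z`
  have hEQc : ∀ e ∈ E, ∀ g ∈ QQ p x y z, e⁻¹ * (g * e * g⁻¹) ∈ ZZ p z := by
    intro e he g hg
    have := hcomm e (hEQ he) g⁻¹ (Subgroup.inv_mem _ hg)
    rw [inv_inv] at this
    have h2 : e⁻¹ * (g * e * g⁻¹) = e⁻¹ * g * e * g⁻¹ := by group
    rw [h2]; exact this
  -- some `F`-automorphism of `E` moves `Z`
  have hmove : ∃ α ∈ F.autGroup E, ∃ t, ∃ ht : t ∈ ZZ p z, ((α ⟨t, hZE ht⟩ : E) : Ω) ∉ ZZ p z := by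
    by_contra hno
    push Not at hno
    apply hyE
    refine stab_mem hS F hE hZE (fun α hα t ht => hno α hα t ht) y hyS hyN
      (fun e he => hEQc e he y hyQ) (fun t ht => ?_)
    rw [← hG.Z_comm y hyS t ht, mul_inv_cancel_right]
  obtain ⟨α, hα, t₀, ht₀, hαt₀⟩ := hmove
  -- the chain `⊥ ≤ Z` in `↥E`
  set T' : Subgroup ↥E := (ZZ p z).subgroupOf E with hT'
  have hcT' : Nat.card T' = p := by
    rw [hT', Nat.card_congr (Subgroup.subgroupOfEquivOfLe hZE).toEquiv, hcZ, hn4]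
    norm_num
  have hidx : (⊥ : Subgroup ↥E).index = p ^ 2 := by
    rw [Subgroup.index_bot]; exact hcard
  have hTK : (⊥ : Subgroup ↥E).relIndex T' = p := by
    rw [Subgroup.relIndex_bot_left]; exact hcT'
  have hKinv : ∀ α ∈ F.autGroup E, ∀ k ∈ (⊥ : Subgroup ↥E), α k ∈ (⊥ : Subgroup ↥E) := by
    intro α _ k hk
    rw [Subgroup.mem_bot] at hk ⊢
    rw [hk, map_one]
  have hexp : ∀ e : ↥E, e ^ p ∈ (⊥ : Subgroup ↥E) := by
    intro e
    rw [Subgroup.mem_bot]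
    apply Subtype.ext
    rw [Subgroup.coe_pow]
    exact hel.2 _ e.2
  have hab : ∀ e f : ↥E, e⁻¹ * f⁻¹ * e * f ∈ (⊥ : Subgroup ↥E) := by
    intro e f
    rw [Subgroup.mem_bot]
    have hc : e * f = f * e := hel.1.is_comm.comm e f
    calc e⁻¹ * f⁻¹ * e * f = e⁻¹ * f⁻¹ * (e * f) := by group
      _ = e⁻¹ * f⁻¹ * (f * e) := by rw [hc]
      _ = 1 := by group
  have hPU : ∀ β ∈ autInducedBy S E, ChainTriv (⊥ : Subgroup ↥E) T' β := by
    intro β hβ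
    obtain ⟨g, hg, hgβ⟩ := mem_autInducedBy_iff.mp hβ
    have hgN : g ∈ Subgroup.normalizer (E : Set Ω) := by
      rw [Subgroup.mem_normalizer_iff]
      intro e
      constructor
      · intro he
        have := hgβ ⟨e, he⟩
        rw [← this]; exact (β ⟨e, he⟩).2
      · intro he
        obtain ⟨e', he'⟩ := β.surjective ⟨g * e * g⁻¹, he⟩
        have h1 := hgβ e'
        rw [he'] at h1
        have h2 : e = (e' : Ω) := by
          have h3 : g * e * g⁻¹ = g * (e' : Ω) * g⁻¹ := h1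
          exact mul_left_cancel (mul_right_cancel h3)
        rw [h2]; exact e'.2
    have hgQ : g ∈ QQ p x y z := hNEQ g hg hgN
    refine ⟨fun t ht => ?_, fun e => ?_⟩
    · rw [Subgroup.mem_bot]
      apply Subtype.ext
      rw [Subgroup.coe_mul, Subgroup.coe_inv, hgβ, Subgroup.coe_one]
      have := hG.Z_comm g hg _ (Subgroup.mem_subgroupOf.1 ht)
      rw [← this, mul_inv_cancel_right, inv_mul_cancel]
    · rw [Subgroup.mem_subgroupOf, Subgroup.coe_mul, Subgroup.coe_inv, hgβ]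
      exact hEQc _ e.2 g hgQ
  -- the transvection induced by `y`
  have hu3 : ∃ e : ↥E, e⁻¹ * (conjAut E y hyN) e ∉ (⊥ : Subgroup ↥E) := by
    by_contra hno
    push Not at hno
    apply hyE
    apply hcen y hyS
    intro e he
    have h1 := hno ⟨e, he⟩
    rw [Subgroup.mem_bot] at h1
    have h2 := congrArg (fun t : ↥E => (t : Ω)) h1
    simp only [Subgroup.coe_mul, Subgroup.coe_inv, conjAut_apply, Subgroup.coe_one] at h2
    have h3 : y * e * y⁻¹ = e := by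
      have := congrArg (fun t => e * t) h2
      simpa [mul_assoc] using this
    calc y * e = y * e * y⁻¹ * y := by group
      _ = e * y := by rw [h3]
  obtain ⟨h, hh, hnorm, hT, hsq⟩ := torus (p := p) (by omega) (F.autGroup E)
    (autInducedBy S E) hPle hP (⊥ : Subgroup ↥E) T' bot_le hKinv hexp hab hidx hTK
    hPU (conjAut E y hyN) (conjAut_mem_autInducedBy hyS hyN) hu3
    α hα ⟨⟨t₀, hZE ht₀⟩, Subgroup.mem_subgroupOf.2 ht₀,
      fun hc => hαt₀ (Subgroup.mem_subgroupOf.1 hc)⟩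
  -- extend `h` to `Q`
  obtain ⟨ψ, hψ, hψh⟩ := extend_normalizing hS F hF hfn h hh hnorm (QQ p x y z) hQS hQNE hEQ
  have hψQ : ∀ q : ↥(QQ p x y z), ψ q ∈ QQ p x y z := by
    intro q
    rw [hG.Q_omega hp5 hn4 _ ((F.le_of_mem hψ).2 q), ← map_pow]
    have : q ^ p = 1 := by
      apply Subtype.ext
      rw [Subgroup.coe_pow, Subgroup.coe_one]
      exact (hG.Q_omega hp5 hn4 _ (hQS q.2)).1 q.2
    rw [this, map_one]
  have hr : ψ.range = QQ p x y z := range_eq_of_forall_mem ψ (F.injective_of_mem hψ) hψQ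
  have hhQ := autOfHom_mem F hψ hr
  have hTinv : ∀ q : ↥(QQ p x y z), (q : Ω) ∈ TT p y z →
      ((autOfHom F hψ hr q : ↥(QQ p x y z)) : Ω) ∈ TT p y z :=
    fun q hq => hG.Q_aut_T hS F hF hp5 _ hhQ q hq
  refine hG.no_weight_two hS F hF hp5 _ hhQ hTinv (fun q => ?_)
  obtain ⟨e, he, t, ht, hq⟩ := hQET q q.2
  have hqe : q = ⟨e, hEQ he⟩ * ⟨t, hTQ ht⟩ := Subtype.ext hq
  rw [autOfHom_apply, hqe, map_mul, hψh e he]
  have h1 := Subgroup.mem_subgroupOf.1 (hsq ⟨e, he⟩)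
  rw [Subgroup.coe_mul, Subgroup.coe_inv, Subgroup.coe_pow] at h1
  have h2 := hTinv ⟨t, hTQ ht⟩ ht
  rw [autOfHom_apply] at h2
  have h3 : e⁻¹ * t⁻¹ * e ∈ TT p y z := by
    have := hTS e⁻¹ (S.inv_mem (hES he)) t⁻¹ (Subgroup.inv_mem _ ht)
    rw [inv_inv, inv_inv] at this
    have h4 : e⁻¹ * t⁻¹ * e = t⁻¹ * (t * (e⁻¹ * t⁻¹ * e)) := by group
    rw [h4]
    exact Subgroup.mul_mem _ (Subgroup.inv_mem _ ht) (hZT this)
  have h5 : ((((⟨e, hEQ he⟩ : ↥(QQ p x y z)) * ⟨t, hTQ ht⟩ : ↥(QQ p x y z)) : Ω) ^ 2)⁻¹ *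
      (((h ⟨e, he⟩ : ↥E) : Ω) * ψ ⟨t, hTQ ht⟩) =
      t⁻¹ * (e⁻¹ * t⁻¹ * e) * ((e ^ 2)⁻¹ * ((h ⟨e, he⟩ : ↥E) : Ω)) * ψ ⟨t, hTQ ht⟩ := by
    rw [Subgroup.coe_mul]
    show ((e * t) ^ 2)⁻¹ * _ = _
    rw [pow_two, pow_two]
    group
  rw [h5]
  exact Subgroup.mul_mem _ (Subgroup.mul_mem _ (Subgroup.mul_mem _ (Subgroup.inv_mem _ ht) h3)
    (hZT h1)) h2

end N

/-! ## Part R : the three cases and the theorem (assemblies) -/

section R
variable {S : Subgroup Ω} {p n s : ℕ} [Fact p.Prime] {x y z : Ω}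

/-- **F2 case** (assembly). in the family F2 every essential subgroup equals `S`. -/
theorem F2Set.essential_eq [Finite S] (hS : IsPGroup p S) (F : FusionSystem S)
    (hF : F.IsSaturated p) (hG : F2Set p n s S x y z) (hp5 : 5 ≤ p)
    (hrank3 : ∀ E : Subgroup Ω, E ≤ S → Cfsg.IsElementaryAbelian p E → Nat.card E ≤ p ^ 2)
    (E : Subgroup Ω) (hE : F.IsEssential p E) : E = S := by
  by_contra hne
  obtain ⟨hES, hcen⟩ := selfCent_of_essential F hE
  obtain ⟨hZT, hTA, hSS, hTS, hTexp, hzT⟩ := hG.T_facts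
  obtain ⟨hxS, hyS, hzS, hAS⟩ := hG.mems
  by_cases hab : ∀ a ∈ E, ∀ b ∈ E, a * b = b * a
  · obtain ⟨hel, hcard⟩ := abelian_essential p hS F hF hp5 hrank3 E hE hab
    exact hG.no_pearl hS F hF hp5 E hE hel hcard
  · push Not at hab
    obtain ⟨a, ha, b, hb, hab⟩ := hab
    obtain ⟨k, hk⟩ := hG.classify E hES hne hcen ⟨a, ha, b, hb, hab⟩
    obtain ⟨hzN, hzM, hTM, hMS⟩ := hG.Mk_z k
    -- in both cases `T` is `Aut_F(E)`-invariant, and then `z ∈ E`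
    suffices hinv : ∀ α ∈ F.autGroup E, ∀ t (ht : t ∈ TT p y z),
        ((α ⟨t, hk ▸ hTM ht⟩ : E) : Ω) ∈ TT p y z by
      apply hzM
      rw [← hk]
      refine stab_mem hS F hE (hk ▸ hTM) hinv z hzS (hk ▸ hzN) (fun e he => hSS e (hES he) z hzS)
        (fun t ht => hzT t ht)
    by_cases hpk : p ∣ k
    · have hEQ : E = QQ p x y z := hk.trans (hG.Mk_eq_Q k hpk)
      subst hEQ
      intro α hα t ht
      exact hG.Q_aut_T hS F hF hp5 α hα _ ht
    · intro α hα t ht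
      have hmem : ((α ⟨t, hk ▸ hTM ht⟩ : E) : Ω) ∈ MM p x y z k := hk ▸ (α ⟨t, hk ▸ hTM ht⟩).2
      rw [hG.Mk_char hp5 k hpk _ hmem, ← Subgroup.coe_pow, ← map_pow]
      have : (⟨t, hk ▸ hTM ht⟩ : E) ^ p ^ (n - 3) = 1 := by
        apply Subtype.ext
        rw [Subgroup.coe_pow, Subgroup.coe_one]
        exact hTexp t ht
      rw [this, map_one, Subgroup.coe_one]

/-- **F1 case** (assembly). in the family F1 (not of exponent `p`) every essential subgroup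
equals `S`. -/
theorem F1Set.essential_eq [Finite S] (hS : IsPGroup p S) (F : FusionSystem S)
    (hF : F.IsSaturated p) (hG : F1Set p n S x y z) (hp5 : 5 ≤ p)
    (hrank3 : ∀ E : Subgroup Ω, E ≤ S → Cfsg.IsElementaryAbelian p E → Nat.card E ≤ p ^ 2)
    (hnotE : ¬ (Nat.card S = p ^ 3 ∧ Monoid.exponent ↥S = p))
    (E : Subgroup Ω) (hE : F.IsEssential p E) : E = S := by
  have hpp : p.Prime := Fact.out
  by_contra hne
  obtain ⟨hES, hcen⟩ := selfCent_of_essential F hE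
  obtain ⟨hzS, hzc, hzo, hprop⟩ := hG.facts
  have hn3 := hG.hn3
  have hn4 : 4 ≤ n := by
    by_contra hlt
    have hn : n = 3 := by omega
    exact hnotE ⟨hn ▸ hG.card, hG.exponent (by omega) hn⟩
  have hzE : z ∈ E := hcen z hzS (fun e he => hzc e (hES he) ▸ rfl)
  have hab := hprop E hES hne hzE
  obtain ⟨hel, hcard⟩ := abelian_essential p hS F hF hp5 hrank3 E hE hab
  have hzp : z ^ p = 1 := hel.2 z hzE
  have hdvd : p ^ (n - 2) ∣ p := hzo ▸ orderOf_dvd_of_pow_eq_one hzp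
  have h2 : p ^ 2 ∣ p := (pow_dvd_pow p (by omega)).trans hdvd
  have := Nat.le_of_dvd hpp.pos h2
  nlinarith [hpp.two_le]


/-- **S5289**. -/
theorem main [Finite S] (hS : IsPGroup p S) (F : FusionSystem S) (hF : F.IsSaturated p)
    (hp5 : 5 ≤ p)
    (hrank3 : ∀ E : Subgroup Ω, E ≤ S → Cfsg.IsElementaryAbelian p E → Nat.card E ≤ p ^ 2)
    (hnotE : ¬ (Nat.card S = p ^ 3 ∧ Monoid.exponent ↥S = p)) : F.IsNormal S := by
  have key : (∀ E : Subgroup Ω, F.IsEssential p E → E = S) → F.IsNormal S := by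
    intro hess
    rw [Cfsg.Agent.S5087.result p hS F hF S]
    intro P hP
    have hPS : P = S := by
      rcases hP with h | h
      · exact h
      · exact hess P h
    subst hPS
    refine ⟨le_rfl, fun α _ => ?_⟩
    rw [Subgroup.subgroupOf_self]
    exact Subgroup.map_top_of_surjective _ α.surjective
  rcases trichotomy hp5 hS hrank3 with hm | ⟨n, x, y, z, h1⟩ | ⟨n, s, x, y, z, h2⟩
  · exact Cfsg.Agent.S5234.result p hS F hF S
      ⟨le_rfl, fun R _ φ hφ r => (F.le_of_mem hφ).2 r⟩ (by omega) hm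
  · exact key (fun E hE => h1.essential_eq hS F hF hp5 hrank3 hnotE E hE)
  · exact key (fun E hE => h2.essential_eq hS F hF hp5 hrank3 E hE)

end R
end Cfsg.Agent.Lib.Helper10.RES
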